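import Cfsg.Agent.ThreeFour.Module.Char

/-!
The consequences of the character argument for the action itself.
-/

set_option autoImplicit false
set_option linter.unusedSectionVars false
set_option linter.style.haveILetI false

namespace Cfsg.Lib.ThreeFour.Mod

universe u v

variable {W : Type u} [AddCommGroup W] [Finite W] {P : Type v} [CommGroup P] [Finite P]
  {ρ : P →* AddMonoid.End W} {X : AddMonoid.End W} {φ : P →* P}

noncomputable instance : CommRing ↥(alg ρ) :=
  { (inferInstance : Ring ↥(alg ρ)) with mul_comm := fun a b => Subtype.ext (alg_commute a.2 b.2).eq }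

/-- An element on which all characters are trivial acts trivially. -/
theorem Data.rho_eq_one (D : Data ρ X φ) (b : P)
    (h : ∀ (K : Type u) [CommRing K] [IsDomain K] [CharP K 2] (χ : ↥(alg ρ) →+* K), char χ b = 1) :
    ρ b = 1 := by
  set r : ↥(alg ρ) := ⟨ρ b, rho_mem b⟩ with hr
  have hnil : IsNilpotent (r - 1) := by
    refine (mem_nilradical (R := ↥(alg ρ))).1 ?_
    rw [nilradical_eq_sInf, Submodule.mem_sInf]
    intro (I : Ideal ↥(alg ρ)) hI
    haveI : I.IsPrime := hI
    haveI : Nontrivial (↥(alg ρ) ⧸ I) := Ideal.Quotient.nontrivial_iff.2 hI.ne_top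
    haveI : CharP (↥(alg ρ) ⧸ I) 2 := by
      refine CharP.charP_iff_prime_eq_zero Nat.prime_two |>.2 ?_
      have h2 : (2 : ↥(alg ρ)) = 0 := Subtype.ext (by
        simpa [← one_add_one_eq_two] using D.two_eq (1 : AddMonoid.End W))
      have := congrArg (Ideal.Quotient.mk I) h2
      rw [map_ofNat, map_zero] at this
      simpa using this
    have h1 := h (↥(alg ρ) ⧸ I) (Ideal.Quotient.mk I)
    rw [char_apply, ← map_one (Ideal.Quotient.mk I)] at h1
    exact Ideal.Quotient.eq.1 h1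
  obtain ⟨n, hn⟩ := hnil
  have hn' : (ρ b - 1) ^ (2 ^ n) = 0 := by
    have h1 : (ρ b - 1) ^ n = 0 := by simpa [hr] using congrArg Subtype.val hn
    rw [← Nat.add_sub_cancel' (Nat.lt_two_pow_self (n := n)).le, pow_add, h1, zero_mul]
  have hsq : ∀ m : ℕ, (ρ b - 1) ^ (2 ^ m) = ρ b ^ (2 ^ m) - 1 := by
    intro m
    induction m with
    | zero => simp
    | succ m ih =>
      rw [pow_succ 2 m, pow_mul, pow_mul, ih, pow_two, pow_two, sub_mul, mul_sub, mul_sub, one_mul, mul_one,
        one_mul]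
      have h1 := D.neg_eq (ρ b ^ 2 ^ m)
      have h2 := D.neg_eq (1 : AddMonoid.End W)
      rw [sub_eq_add_neg, sub_eq_add_neg, sub_eq_add_neg, h1, neg_add, h1, neg_neg, sub_eq_add_neg, h2]
      rw [show ρ b ^ 2 ^ m * ρ b ^ 2 ^ m + ρ b ^ 2 ^ m + (ρ b ^ 2 ^ m + 1) =
        ρ b ^ 2 ^ m * ρ b ^ 2 ^ m + (ρ b ^ 2 ^ m + ρ b ^ 2 ^ m) + 1 by abel, D.two_eq, add_zero]
  rw [hsq, sub_eq_zero, ← map_pow] at hn'
  have hco : (Nat.card P).Coprime (2 ^ n) :=
    Nat.Coprime.pow_right _ (Nat.prime_two.coprime_iff_not_dvd.2 D.odd).symm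
  obtain ⟨c, rfl⟩ := (powCoprime hco).surjective b
  calc ρ (powCoprime hco c) = ρ (c ^ 2 ^ n) := rfl
    _ = 1 := by
      have h1 : ρ c ^ Nat.card P = 1 := by rw [← map_pow, pow_card_eq_one', map_one]
      have h2 : ρ c ^ (2 ^ n * 2 ^ n) = 1 := by rw [pow_mul, ← map_pow, ← map_pow]; exact hn'
      have h3 := pow_gcd_eq_one.2 ⟨h1, h2⟩
      rw [Nat.Coprime.gcd_eq_one (Nat.Coprime.mul_right hco hco), pow_one] at h3
      rw [map_pow, h3, one_pow]

/-- An involution which inverts `X` and is trivial on its fixed points: the action is trivial. -/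
theorem Data.inverted (D : Data ρ X φ) {E : AddMonoid.End W} {ε : P →* P} (O : Outer ρ X E ε)
    (hEX : E * X = X * X * E) (hεφ : ∀ a, ε (φ a) = φ (φ (ε a))) (a : P) : ρ a = 1 :=
  D.rho_eq_one a fun _ _ _ _ _ => D.char_inverted O hEX hεφ a

/-- An involution which commutes with `X` and is trivial on its fixed points centralises the image of `P`. -/
theorem Data.central (D : Data ρ X φ) {E : AddMonoid.End W} {ε : P →* P} (O : Outer ρ X E ε)
    (hEX : E * X = X * E) (hεφ : ∀ a, ε (φ a) = φ (ε a)) (a : P) : ρ (ε a) = ρ a := by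
  have h : ρ (a⁻¹ * ε a) = 1 := D.rho_eq_one _ fun K _ _ _ χ => by
    rw [map_mul, D.char_central O hEX hεφ, ← map_mul, inv_mul_cancel, map_one]
  calc ρ (ε a) = ρ a * ρ (a⁻¹ * ε a) := by rw [← map_mul, mul_inv_cancel_left]
    _ = ρ a := by rw [h, mul_one]

end Cfsg.Lib.ThreeFour.Mod
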