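import Mathlib

/-!
A Frobenius group of order twenty-one acting on an elementary abelian two-group: `X` of order three,
`A` of order seven with `X A = A ^ 2 X`, at most four fixed points of `X`, none of them fixed by `A`.
-/

set_option autoImplicit false
set_option linter.unusedSectionVars false
set_option linter.style.haveILetI false

namespace Cfsg.Lib.ThreeFour.Frob

open Finset

universe u

variable {W : Type u} [AddCommGroup W]

/-- The relations. -/
structure Pre (X A : AddMonoid.End W) : Prop where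
  two : ∀ w : W, w + w = 0
  cube : X * X * X = 1
  seven : A ^ 7 = 1
  comm : X * A = A ^ 2 * X

/-- The relations and the hypotheses on the fixed points. -/
structure Data (X A : AddMonoid.End W) : Prop extends Pre X A where
  small : Nat.card {w : W // X w = w} ≤ 4
  free : ∀ w : W, X w = w → A w = w → w = 0

variable {X A : AddMonoid.End W}

/-- The sum of the powers of `A`. -/
def avg (A : AddMonoid.End W) : AddMonoid.End W := ∑ i ∈ range 7, A ^ i

/-- The fixed points of `X`. -/
def fixX (X : AddMonoid.End W) : AddSubgroup W where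
  carrier := {w | X w = w}
  zero_mem' := map_zero X
  add_mem' := fun {a b} ha hb => by show X (a + b) = a + b; rw [map_add, ha, hb]
  neg_mem' := fun {a} ha => by show X (-a) = -a; rw [map_neg, ha]

theorem mem_fixX {w : W} : w ∈ fixX X ↔ X w = w := Iff.rfl

theorem Pre.two_eq (D : Pre X A) (r : AddMonoid.End W) : r + r = 0 :=
  AddMonoidHom.ext fun w => D.two (r w)

theorem Pre.neg_eq (D : Pre X A) (r : AddMonoid.End W) : -r = r := neg_eq_of_add_eq_zero_left (D.two_eq r)

theorem Pre.neg_mem_eq (D : Pre X A) (w : W) : -w = w := neg_eq_of_add_eq_zero_left (D.two w)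

theorem Pre.pow_mod (D : Pre X A) (n : ℕ) : A ^ n = A ^ (n % 7) := by
  conv_lhs => rw [← Nat.mod_add_div n 7, pow_add, pow_mul, D.seven, one_pow, mul_one]

theorem Pre.comm_pow (D : Pre X A) (j : ℕ) : X * A ^ j = A ^ (2 * j) * X := by
  induction j with
  | zero => simp
  | succ j ih =>
    rw [pow_succ, ← mul_assoc, ih, mul_assoc, D.comm, ← mul_assoc, ← pow_add]
    ring_nf

theorem Pre.comm_pow_two (D : Pre X A) (j : ℕ) : X * X * A ^ j = A ^ (4 * j) * (X * X) := by
  rw [mul_assoc, D.comm_pow, ← mul_assoc, D.comm_pow, mul_assoc, ← mul_assoc 2 2 j]; norm_num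

theorem Pre.mul_avg (D : Pre X A) : A * avg A = avg A := by
  simp only [avg, Finset.sum_range_succ, Finset.range_zero, Finset.sum_empty, zero_add, mul_add, ← pow_succ']
  rw [D.seven, pow_zero]
  abel

theorem Pre.avg_comm (D : Pre X A) : X * avg A = avg A * X := by
  simp only [avg, Finset.sum_range_succ, Finset.range_zero, Finset.sum_empty, zero_add, mul_add, add_mul,
    D.comm_pow]
  simp only [D.pow_mod (2 * 4), D.pow_mod (2 * 5), D.pow_mod (2 * 6)]
  norm_num
  abel

theorem Pre.avg_fix_A (D : Pre X A) (w : W) : A (avg A w) = avg A w := by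
  show (A * avg A) w = avg A w
  rw [D.mul_avg]

/-- The average of a fixed point of `X` vanishes. -/
theorem Data.avg_fixX (D : Data X A) {u : W} (hu : X u = u) : avg A u = 0 :=
  D.free _ (by
    show (X * avg A) u = avg A u
    rw [D.avg_comm]
    show avg A (X u) = avg A u
    rw [hu]) (D.avg_fix_A u)

/-- `A + A^2 + A^4`. -/
def sig (A : AddMonoid.End W) : AddMonoid.End W := A + A ^ 2 + A ^ 4

theorem Pre.sig_comm (D : Pre X A) : X * sig A = sig A * X := by
  simp only [sig, mul_add, add_mul, D.comm_pow, D.comm, D.pow_mod (2 * 4)]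
  norm_num
  abel

theorem Pre.sig_mem (D : Pre X A) {u : W} (hu : u ∈ fixX X) : sig A u ∈ fixX X := by
  show (X * sig A) u = sig A u
  rw [D.sig_comm]
  show sig A (X u) = sig A u
  rw [mem_fixX.1 hu]

theorem Pre.cube_eq (D : Pre X A) :
    A ^ 3 = sig A * A ^ 2 + sig A * A + A + 1 + avg A * A := by
  have h : sig A * A ^ 2 + sig A * A + A + 1 + avg A * A =
      A ^ 3 + ((A ^ 4 + A ^ 4) + (A ^ 6 + A ^ 6) + (A ^ 2 + A ^ 2) + (A ^ 3 + A ^ 3) + (A ^ 5 + A ^ 5) +
        (A + A) + (1 + A ^ 7)) := by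
    simp only [sig, avg, Finset.sum_range_succ, Finset.range_zero, Finset.sum_empty, zero_add, add_mul,
      ← pow_succ, ← pow_add, pow_zero, one_mul, pow_one]
    norm_num [pow_succ, mul_assoc]
    abel
  rw [h, D.seven]
  simp only [D.two_eq, add_zero, zero_add]

/-- The span of the fixed points of `X` under `A`. -/
def span (X A : AddMonoid.End W) : AddSubgroup W :=
  fixX X ⊔ (fixX X).map (A : W →+ W) ⊔ (fixX X).map ((A ^ 2 : AddMonoid.End W) : W →+ W)

theorem mem_span_iff {w : W} :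
    w ∈ span X A ↔ ∃ a ∈ fixX X, ∃ b ∈ fixX X, ∃ c ∈ fixX X, a + A b + (A ^ 2) c = w := by
  simp only [span, AddSubgroup.mem_sup, AddSubgroup.mem_map]
  constructor
  · rintro ⟨_, ⟨a, ha, _, ⟨b, hb, rfl⟩, rfl⟩, _, ⟨c, hc, rfl⟩, rfl⟩
    exact ⟨a, ha, b, hb, c, hc, rfl⟩
  · rintro ⟨a, ha, b, hb, c, hc, rfl⟩
    exact ⟨_, ⟨a, ha, _, ⟨b, hb, rfl⟩, rfl⟩, _, ⟨c, hc, rfl⟩, rfl⟩

theorem fixX_le_span : fixX X ≤ span X A := le_sup_of_le_left le_sup_left

theorem Data.cube_mem (D : Data X A) {u : W} (hu : u ∈ fixX X) : (A ^ 3) u ∈ span X A := by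
  rw [mem_span_iff]
  refine ⟨u, hu, sig A u + u, add_mem (D.sig_mem hu) hu, sig A u, D.sig_mem hu, ?_⟩
  have hA : Commute (sig A) A := (((Commute.refl A).add_left ((Commute.refl A).pow_left 2)).add_left
    ((Commute.refl A).pow_left 4))
  have he : (avg A * A) u = 0 := by
    have hc : Commute (avg A) A := Commute.sum_left _ _ _ fun i _ => (Commute.refl A).pow_left i
    rw [hc.eq]
    show A (avg A u) = 0
    rw [D.avg_fixX (mem_fixX.1 hu), map_zero]
  rw [D.cube_eq]
  show u + A (sig A u + u) + (A ^ 2) (sig A u) =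
    (sig A * A ^ 2) u + (sig A * A) u + A u + u + (avg A * A) u
  rw [he, add_zero, (hA.pow_right 2).eq, hA.eq, map_add]
  show u + (A (sig A u) + A u) + (A ^ 2) (sig A u) = (A ^ 2) (sig A u) + A (sig A u) + A u + u
  abel

theorem Data.map_span (D : Data X A) {w : W} (hw : w ∈ span X A) : A w ∈ span X A := by
  obtain ⟨a, ha, b, hb, c, hc, rfl⟩ := mem_span_iff.1 hw
  rw [map_add, map_add]
  refine add_mem (add_mem ?_ ?_) ?_
  · exact AddSubgroup.mem_sup_left (AddSubgroup.mem_sup_right ⟨a, ha, rfl⟩)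
  · exact AddSubgroup.mem_sup_right ⟨b, hb, by rw [pow_two]; rfl⟩
  · have h1 : A ((A ^ 2) c) = (A ^ 3) c := by rw [pow_succ' A 2]; rfl
    rw [h1]
    exact D.cube_mem hc

theorem Data.map_pow_span (D : Data X A) (n : ℕ) {w : W} (hw : w ∈ span X A) : (A ^ n) w ∈ span X A := by
  induction n with
  | zero => exact hw
  | succ n ih => rw [pow_succ']; exact D.map_span ih

theorem Data.X_span (D : Data X A) {w : W} (hw : w ∈ span X A) : X w ∈ span X A := by
  obtain ⟨a, ha, b, hb, c, hc, rfl⟩ := mem_span_iff.1 hw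
  rw [map_add, map_add]
  refine add_mem (add_mem (fixX_le_span (by rwa [mem_fixX.1 ha])) ?_) ?_
  · show (X * A) b ∈ _
    rw [D.comm]
    show (A ^ 2) (X b) ∈ _
    rw [mem_fixX.1 hb]
    exact D.map_pow_span 2 (fixX_le_span hb)
  · show (X * A ^ 2) c ∈ _
    rw [D.comm_pow]
    show (A ^ (2 * 2)) (X c) ∈ _
    rw [mem_fixX.1 hc]
    exact D.map_pow_span _ (fixX_le_span hc)

/-- An element lies in the sum of the translates of the fixed points. -/
theorem Pre.exists_fix_sum (D : Pre X A) (w : W) :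
    ∃ f : ℕ → W, (∀ i, f i ∈ fixX X) ∧ A w + w = A (∑ i ∈ range 7, (A ^ i) (f i)) + ∑ i ∈ range 7, (A ^ i) (f i) := by
  set N : AddMonoid.End W := 1 + X + X * X with hN
  have hNfix : ∀ v, N v ∈ fixX X := fun v => by
    show (X * N) v = N v
    rw [hN, mul_add, mul_add, mul_one, ← mul_assoc, D.cube]
    congr 1
    abel
  have hterm : ∀ i j, A ^ i * N * A ^ j =
      A ^ (i + j) + A ^ (i + 2 * j) * X + A ^ (i + 4 * j) * (X * X) := fun i j => by
    rw [hN, mul_add, mul_add, mul_one, add_mul, add_mul, ← pow_add, mul_assoc (A ^ i) X, D.comm_pow,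
      ← mul_assoc, ← pow_add, mul_assoc (A ^ i) (X * X), D.comm_pow_two, ← mul_assoc (A ^ i), ← pow_add]
  have hm : ∀ n, 7 ≤ n → A ^ n = A ^ (n - 7) := fun n hn => by
    conv_lhs => rw [← Nat.sub_add_cancel hn, pow_add, D.seven, mul_one]
  have s1 : ∑ i ∈ range 7, A ^ (i + (7 - i)) = 1 := by
    simp only [Finset.sum_range_succ, Finset.range_zero, Finset.sum_empty, zero_add, Nat.reduceAdd,
      Nat.reduceSub, D.seven, D.two_eq]
  have s2 : ∑ i ∈ range 7, A ^ (i + 2 * (7 - i)) = avg A := by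
    simp only [avg, Finset.sum_range_succ, Finset.range_zero, Finset.sum_empty, zero_add, Nat.reduceAdd,
      Nat.reduceSub, Nat.reduceMul, D.pow_mod 14, D.pow_mod 13, D.pow_mod 12, D.pow_mod 11, D.pow_mod 10,
      D.pow_mod 9, D.pow_mod 8, Nat.reduceMod]
    abel
  have s4 : ∑ i ∈ range 7, A ^ (i + 4 * (7 - i)) = avg A := by
    simp only [avg, Finset.sum_range_succ, Finset.range_zero, Finset.sum_empty, zero_add, Nat.reduceAdd,
      Nat.reduceSub, Nat.reduceMul, D.pow_mod 28, D.pow_mod 25, D.pow_mod 22, D.pow_mod 19, D.pow_mod 16,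
      D.pow_mod 13, D.pow_mod 10, Nat.reduceMod]
    abel
  have hsum : ∑ i ∈ range 7, A ^ i * N * A ^ (7 - i) = 1 + avg A * X + avg A * (X * X) := by
    simp only [hterm, Finset.sum_add_distrib, ← Finset.sum_mul, s1, s2, s4]
  have h1 : A w + w = ((A + 1) * ∑ i ∈ range 7, A ^ i * N * A ^ (7 - i)) w := by
    rw [hsum]
    have h2 : (A + 1) * avg A = 0 := by rw [add_mul, D.mul_avg, one_mul, D.two_eq]
    rw [mul_add, mul_add, mul_one, ← mul_assoc, ← mul_assoc, h2, zero_mul, zero_mul, add_zero, add_zero]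
    rfl
  refine ⟨fun i => N ((A ^ (7 - i)) w), fun i => hNfix _, ?_⟩
  rw [h1]
  have he : ∀ v, (∑ i ∈ range 7, A ^ i * N * A ^ (7 - i)) v = ∑ i ∈ range 7, (A ^ i) (N ((A ^ (7 - i)) v)) := by
    intro v
    simp only [Finset.sum_range_succ, Finset.range_zero, Finset.sum_empty, zero_add]
    rfl
  rw [← he]
  rfl

/-- `A - 1` maps into the span. -/
theorem Data.sub_mem_span (D : Data X A) (w : W) : A w + w ∈ span X A := by
  obtain ⟨f, hf, e⟩ := D.exists_fix_sum w
  rw [e]
  have h3 : ∑ i ∈ range 7, (A ^ i) (f i) ∈ span X A :=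
    sum_mem fun i _ => D.map_pow_span i (fixX_le_span (hf i))
  exact add_mem (D.map_span h3) h3

/-- If `A` fixes the fixed points of `X` then `A` is trivial. -/
theorem Pre.eq_one (D : Pre X A) (h : ∀ u ∈ fixX X, A u = u) (w : W) : A w = w := by
  have hp : ∀ n, ∀ u ∈ fixX X, (A ^ n) u = u := fun n u hu => by
    induction n with
    | zero => rfl
    | succ n ih => rw [pow_succ']; show A ((A ^ n) u) = u; rw [ih, h u hu]
  obtain ⟨f, hf, e⟩ := D.exists_fix_sum w
  have h4 : ∑ i ∈ range 7, (A ^ i) (f i) = ∑ i ∈ range 7, f i := Finset.sum_congr rfl fun i _ => hp i _ (hf i)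
  rw [h4, map_sum, Finset.sum_congr rfl fun i _ => h _ (hf i), D.two] at e
  calc A w = A w + (w + w) := by rw [D.two, add_zero]
    _ = w := by rw [← add_assoc, e, zero_add]

theorem Pre.fixX_sq (D : Pre X A) : fixX (X * X) = fixX X := by
  ext w
  refine ⟨fun hw => ?_, fun hw => ?_⟩
  · have hw' : X (X w) = w := hw
    show X w = w
    calc X w = X (X (X w)) := (congrArg X hw').symm
      _ = (X * X * X) w := rfl
      _ = w := by rw [D.cube]; rfl
  · show X (X w) = w
    rw [mem_fixX.1 hw, mem_fixX.1 hw]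

/-- The fixed points of `A`. -/
def fixA (A : AddMonoid.End W) : AddSubgroup W := fixX A

theorem Data.avg_self (D : Data X A) {c : W} (hc : c ∈ fixA A) : avg A c = c := by
  have h : ∀ n, (A ^ n) c = c := fun n => by
    induction n with
    | zero => rfl
    | succ n ih =>
      rw [pow_succ]
      show (A ^ n) (A c) = c
      rw [show A c = c from hc, ih]
  show (∑ i ∈ range 7, A ^ i : AddMonoid.End W) c = c
  simp only [Finset.sum_range_succ, Finset.range_zero, Finset.sum_empty, zero_add]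
  show (A ^ 0) c + (A ^ 1) c + (A ^ 2) c + (A ^ 3) c + (A ^ 4) c + (A ^ 5) c + (A ^ 6) c = c
  simp only [h, D.two, zero_add]

theorem Data.avg_span (D : Data X A) {s : W} (hs : s ∈ span X A) : avg A s = 0 := by
  obtain ⟨a, ha, b, hb, c, hc, rfl⟩ := mem_span_iff.1 hs
  have hA : Commute (avg A) A := Commute.sum_left _ _ _ fun i _ => (Commute.refl A).pow_left i
  rw [map_add, map_add, D.avg_fixX (mem_fixX.1 ha)]
  show 0 + (avg A * A) b + (avg A * A ^ 2) c = 0
  rw [hA.eq, (hA.pow_right 2).eq]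
  show 0 + A (avg A b) + (A ^ 2) (avg A c) = 0
  rw [D.avg_fixX (mem_fixX.1 hb), D.avg_fixX (mem_fixX.1 hc), map_zero, map_zero, add_zero, add_zero]

theorem Data.add_avg_mem (D : Data X A) (w : W) : w + avg A w ∈ span X A := by
  have h : ∀ n, (A ^ n) w + w ∈ span X A := fun n => by
    induction n with
    | zero => rw [pow_zero]; show w + w ∈ _; rw [D.two]; exact zero_mem _
    | succ n ih =>
      have h1 := D.sub_mem_span ((A ^ n) w)
      have h2 : A ((A ^ n) w) = (A ^ (n + 1)) w := by rw [pow_succ']; rfl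
      rw [h2] at h1
      have h3 := add_mem h1 ih
      rwa [show (A ^ (n + 1)) w + (A ^ n) w + ((A ^ n) w + w) =
        (A ^ (n + 1)) w + w + ((A ^ n) w + (A ^ n) w) by abel, D.two, add_zero] at h3
  have h4 := sum_mem (f := fun i => (A ^ i) w + w) (t := range 7) fun i _ => h i
  have e : ∑ i ∈ range 7, ((A ^ i) w + w) = w + avg A w := by
    simp only [avg, Finset.sum_range_succ, Finset.range_zero, Finset.sum_empty, zero_add]
    show (A ^ 0) w + w + ((A ^ 1) w + w) + ((A ^ 2) w + w) + ((A ^ 3) w + w) + ((A ^ 4) w + w) +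
      ((A ^ 5) w + w) + ((A ^ 6) w + w) =
      w + ((A ^ 0) w + (A ^ 1) w + (A ^ 2) w + (A ^ 3) w + (A ^ 4) w + (A ^ 5) w + (A ^ 6) w)
    calc _ = w + ((A ^ 0) w + (A ^ 1) w + (A ^ 2) w + (A ^ 3) w + (A ^ 4) w + (A ^ 5) w + (A ^ 6) w) +
          ((w + w) + (w + w) + (w + w)) := by abel
      _ = _ := by simp only [D.two, add_zero]
  rwa [e] at h4

variable [Finite W]

theorem Data.card_eq (D : Data X A) : Nat.card W = Nat.card (span X A) * Nat.card (fixA A) := by
  let f : span X A × fixA A → W := fun p => p.1.1 + p.2.1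
  have hf : Function.Bijective f := by
    refine ⟨fun p q e => ?_, fun w => ⟨(⟨w + avg A w, D.add_avg_mem w⟩, ⟨avg A w, D.avg_fix_A w⟩), by
      show w + avg A w + avg A w = w
      rw [add_assoc, D.two, add_zero]⟩⟩
    have e' : (p.1 : W) + p.2 = q.1 + q.2 := e
    have h2 := congrArg (avg A) e'
    rw [map_add, map_add, D.avg_span p.1.2, D.avg_span q.1.2, D.avg_self p.2.2, D.avg_self q.2.2, zero_add,
      zero_add] at h2
    rw [h2] at e'
    exact Prod.ext (Subtype.ext (add_right_cancel e')) (Subtype.ext h2)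
  rw [← Nat.card_congr (Equiv.ofBijective f hf), Nat.card_prod]

theorem Data.card_eq_two_pow (D : Data X A) (S : AddSubgroup W) : ∃ n, Nat.card S = 2 ^ n := by
  haveI : Fact (Nat.Prime 2) := ⟨Nat.prime_two⟩
  have h : IsPGroup 2 (Multiplicative S) := fun a =>
    ⟨1, by rw [pow_one, pow_two]; exact congrArg Multiplicative.ofAdd (Subtype.ext (D.two (a.toAdd : W)))⟩
  obtain ⟨n, hn⟩ := (IsPGroup.iff_card (G := Multiplicative S)).1 h
  exact ⟨n, by rw [← hn]; exact (Nat.card_congr Multiplicative.toAdd).symm⟩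

theorem card_fixed_mod {S : AddSubgroup W} {E : AddMonoid.End W} {p : ℕ} [Fact p.Prime] (hE : E ^ p = 1)
    (hS : ∀ w ∈ S, E w ∈ S) : Nat.card S % p = Nat.card (S ⊓ fixX E : AddSubgroup W) % p := by
  classical
  haveI := Fintype.ofFinite S
  let f : Function.End S := fun s => ⟨E s, hS s s.2⟩
  have hit : ∀ n : ℕ, ∀ s : S, ((f^[n]) s : W) = (E ^ n) s := fun n => by
    induction n with
    | zero => intro s; rfl
    | succ n ih => intro s; rw [Function.iterate_succ_apply', pow_succ']; show E ((f^[n]) s : W) = _; rw [ih]; rfl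
  have hf : f ^ p ^ 1 = 1 := by
    rw [pow_one]
    have e : ∀ n, (f ^ n : Function.End S) = f^[n] := fun n => by
      induction n with
      | zero => rfl
      | succ n ih => rw [pow_succ, ih, Function.iterate_succ]; rfl
    rw [e]
    funext s
    exact Subtype.ext (by rw [hit, hE]; rfl)
  have h1 := Equiv.Perm.card_fixedPoints_modEq (p := p) (n := 1) hf
  rw [← Nat.card_eq_fintype_card, ← Nat.card_eq_fintype_card] at h1
  rw [h1]
  exact congrArg (· % p) (Nat.card_congr
    { toFun := fun s => ⟨s.1.1, s.1.2, congrArg Subtype.val (s.2 : f s.1 = s.1)⟩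
      invFun := fun w => ⟨⟨w.1, w.2.1⟩, Subtype.ext w.2.2⟩
      left_inv := fun _ => rfl
      right_inv := fun _ => rfl })

theorem Data.card_span (D : Data X A) :
    Nat.card (fixX X) = 1 ∧ Nat.card (span X A) = 1 ∨ Nat.card (fixX X) = 2 ∧ Nat.card (span X A) = 8 ∨
      Nat.card (fixX X) = 4 ∧ Nat.card (span X A) = 64 := by
  haveI : Fact (Nat.Prime 3) := ⟨Nat.prime_three⟩
  haveI : Fact (Nat.Prime 7) := ⟨by norm_num⟩
  set f := Nat.card (fixX X)
  have hle : Nat.card (span X A) ≤ f * f * f := by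
    refine le_trans (Nat.card_le_card_of_surjective
      (fun p : (fixX X × fixX X) × fixX X => (⟨p.1.1.1 + A p.1.2.1 + (A ^ 2) p.2.1,
        mem_span_iff.2 ⟨_, p.1.1.2, _, p.1.2.2, _, p.2.2, rfl⟩⟩ : span X A)) fun s => ?_) (le_of_eq (by
          rw [Nat.card_prod, Nat.card_prod]))
    obtain ⟨a, ha, b, hb, c, hc, e⟩ := mem_span_iff.1 s.2
    exact ⟨((⟨a, ha⟩, ⟨b, hb⟩), ⟨c, hc⟩), Subtype.ext e⟩
  have h3 : Nat.card (span X A) % 3 = f % 3 := by
    rw [card_fixed_mod (E := X) (p := 3) (by rw [pow_succ, pow_two, D.cube]) fun w hw => D.X_span hw,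
      inf_eq_right.2 fixX_le_span]
  have h7 : Nat.card (span X A) % 7 = 1 := by
    rw [card_fixed_mod (E := A) (p := 7) D.seven fun w hw => D.map_span hw]
    have : span X A ⊓ fixX A = ⊥ := eq_bot_iff.2 fun s hs => by
      rw [AddSubgroup.mem_bot, ← D.avg_self (c := s) hs.2, D.avg_span hs.1]
    rw [this, AddSubgroup.card_bot]
  have hge : f ≤ Nat.card (span X A) :=
    Nat.le_of_dvd Nat.card_pos (AddSubgroup.card_dvd_of_le fixX_le_span)
  obtain ⟨m, hm⟩ := D.card_eq_two_pow (fixX X)
  obtain ⟨n, hn⟩ := D.card_eq_two_pow (span X A)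
  have hm2 : m ≤ 2 := (Nat.pow_le_pow_iff_right (by norm_num : 1 < 2)).1 (hm ▸ D.small : 2 ^ m ≤ 2 ^ 2)
  have hn6 : n ≤ 6 := by
    refine (Nat.pow_le_pow_iff_right (by norm_num : 1 < 2)).1 ?_
    rw [← hn]
    refine hle.trans ?_
    rw [show f = 2 ^ m from hm, ← pow_add, ← pow_add]
    exact Nat.pow_le_pow_right (by norm_num) (by omega)
  rw [show f = 2 ^ m from hm] at hle h3 hge ⊢
  rw [hn] at hle h3 h7 hge ⊢
  interval_cases m <;> interval_cases n <;> norm_num at *

theorem Data.card_fixA_mod (D : Data X A) : Nat.card (fixA A) % 3 = 1 := by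
  haveI : Fact (Nat.Prime 3) := ⟨Nat.prime_three⟩
  have hX : ∀ c ∈ fixA A, X c ∈ fixA A := fun c hc => by
    show A (X c) = X c
    have e : X * A ^ 4 = A * X := by rw [D.comm_pow, D.pow_mod (2 * 4)]; norm_num
    show (A * X) c = X c
    rw [← e]
    show X ((A ^ 4) c) = X c
    congr 1
    have h1 : A c = c := hc
    rw [show (A ^ 4) c = A (A (A (A c))) from rfl, h1, h1, h1, h1]
  rw [card_fixed_mod (E := X) (p := 3) (by rw [pow_succ, pow_two, D.cube]) hX,
    show fixA A ⊓ fixX X = ⊥ from eq_bot_iff.2 fun c hc => AddSubgroup.mem_bot.2 (D.free c hc.2 hc.1),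
    AddSubgroup.card_bot]

/-- Two such elements without common fixed points bound the fixed points of one of them. -/
theorem Data.card_fixA_le (D : Data X A) {A' : AddMonoid.End W} (D' : Data (X * X) A')
    (hdis : fixA A ⊓ fixA A' = ⊥) : Nat.card (fixA A) * Nat.card (fixX X) ≤ Nat.card (span (X * X) A') := by
  have hN : ∀ c ∈ fixA A, c + X c + X (X c) = 0 := fun c hc => by
    have e : X * A ^ 4 = A * X := by rw [D.comm_pow, D.pow_mod (2 * 4)]; norm_num
    have hX : ∀ c ∈ fixA A, X c ∈ fixA A := fun c hc => by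
      show (A * X) c = X c
      rw [← e]
      show X ((A ^ 4) c) = X c
      congr 1
      have h1 : A c = c := hc
      rw [show (A ^ 4) c = A (A (A (A c))) from rfl, h1, h1, h1, h1]
    refine D.free _ ?_ (add_mem (add_mem hc (hX c hc)) (hX _ (hX c hc)))
    rw [map_add, map_add, show X (X (X c)) = (X * X * X) c from rfl, D.cube]
    show X c + X (X c) + c = _
    abel
  refine le_trans (le_of_eq (Nat.card_prod _ _).symm) (Nat.card_le_card_of_injective
    (fun p : fixA A × fixX X => (⟨p.1.1 + avg A' p.1.1 + p.2.1,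
      add_mem (D'.add_avg_mem _) (fixX_le_span (by rw [D.fixX_sq]; exact p.2.2))⟩ : span (X * X) A')) fun p q e => ?_)
  have e' : p.1.1 + avg A' p.1.1 + p.2.1 = q.1.1 + avg A' q.1.1 + q.2.1 := congrArg Subtype.val e
  set c := p.1.1 + q.1.1 with hc
  set u := p.2.1 + q.2.1 with hu
  have hcm : c ∈ fixA A := add_mem p.1.2 q.1.2
  have hum : u ∈ fixX X := add_mem p.2.2 q.2.2
  have h0 : c + avg A' c + u = 0 := by
    rw [hc, hu, map_add]
    calc p.1.1 + q.1.1 + (avg A' p.1.1 + avg A' q.1.1) + (p.2.1 + q.2.1)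
        = (p.1.1 + avg A' p.1.1 + p.2.1) + (q.1.1 + avg A' q.1.1 + q.2.1) := by abel
      _ = 0 := by rw [e', D.two]
  have hXu : X u = u := hum
  have hu0 : u = 0 := by
    have hXav : ∀ w, X (avg A' w) = avg A' (X w) := fun w => by
      show (X * avg A') w = (avg A' * X) w
      have hc : Commute (X * X) (avg A') := D'.avg_comm
      have e4 : (X * X) * (X * X) = X := by rw [← mul_assoc, D.cube, one_mul]
      rw [← e4, (hc.mul_left hc).eq]
    have h1 := congrArg X h0
    have h2 := congrArg X h1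
    simp only [map_add, map_zero, hXav, hXu] at h1 h2
    have h3 : (c + X c + X (X c)) + avg A' (c + X c + X (X c)) + (u + u + u) = 0 := by
      calc _ = (c + avg A' c + u) + (X c + avg A' (X c) + u) + (X (X c) + avg A' (X (X c)) + u) := by
            simp only [map_add]; abel
        _ = 0 := by rw [h0, h1, h2]; simp
    rwa [hN c hcm, map_zero, add_zero, zero_add, D.two, zero_add] at h3
  rw [hu0, add_zero] at h0
  have hc0 : c = 0 := by
    have hh : c ∈ fixA A ⊓ fixA A' := ⟨hcm, by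
      have : c = avg A' c := by
        calc c = c + avg A' c + avg A' c := by rw [add_assoc, D.two, add_zero]
          _ = avg A' c := by rw [h0, zero_add]
      show A' c = c
      rw [this]; exact D'.avg_fix_A c⟩
    rw [hdis] at hh
    exact AddSubgroup.mem_bot.1 hh
  have key : ∀ a b : W, a + b = 0 → a = b := fun a b h => by
    rw [eq_neg_of_add_eq_zero_left h, D.neg_mem_eq]
  exact Prod.ext (Subtype.ext (key _ _ (hc ▸ hc0))) (Subtype.ext (key _ _ (hu ▸ hu0)))

end Cfsg.Lib.ThreeFour.Frob
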