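import Cfsg.Agent.ThreeFour.Module.Main

/-!
With at most two fixed points of `X` the image of `P` has exponent seven.
-/

set_option autoImplicit false
set_option linter.unusedSectionVars false
set_option linter.style.haveILetI false

namespace Cfsg.Lib.ThreeFour.Mod

universe u v

variable {W : Type u} [AddCommGroup W] [Finite W] {P : Type v} [CommGroup P] [Finite P]
  {ρ : P →* AddMonoid.End W} {X : AddMonoid.End W} {φ : P →* P}

/-- With at most two fixed points every element of the algebra commuting with `X` is `0` or `1` there. -/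
theorem Data.scalar (D : Data ρ X φ) (h2 : Nat.card {w : W // X w = w} ≤ 2) {r : ↥(alg ρ)} (hc : Commute r.1 X)
    (b : P) : ((⟨ρ b, rho_mem b⟩ : alg ρ) - 1) * r = 0 ∨ ((⟨ρ b, rho_mem b⟩ : alg ρ) - 1) * (r - 1) = 0 := by
  classical
  haveI := Fintype.ofFinite {w : W // X w = w}
  have key : (∀ w, X w = w → r.1 w = 0) ∨ ∀ w, X w = w → r.1 w = w := by
    by_cases hw : ∃ u, X u = u ∧ r.1 u ≠ 0
    · refine Or.inr ?_
      obtain ⟨u, hu, hru⟩ := hw
      have hu0 : u ≠ 0 := fun e => hru (by rw [e, map_zero])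
      have hall : ∀ w, X w = w → w = 0 ∨ w = u := fun w hw => by
        by_contra hne
        push Not at hne
        have h3 : ({⟨0, map_zero X⟩, ⟨u, hu⟩, ⟨w, hw⟩} : Finset {w : W // X w = w}).card = 3 := by
          rw [Finset.card_eq_three]
          exact ⟨_, _, _, fun e => hu0 (congrArg Subtype.val e).symm, fun e => hne.1 (congrArg Subtype.val e).symm,
            fun e => hne.2 (congrArg Subtype.val e).symm, rfl⟩
        have := Finset.card_le_univ ({⟨0, map_zero X⟩, ⟨u, hu⟩, ⟨w, hw⟩} : Finset {w : W // X w = w})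
        rw [h3, ← Nat.card_eq_fintype_card] at this
        omega
      intro w hw
      rcases hall w hw with e | e
      · rw [e, map_zero]
      · rw [e]
        exact (hall _ (fixed_of_commute hc hu)).resolve_left hru
    · push Not at hw
      exact Or.inl hw
  rcases key with hk | hk
  · exact Or.inl (Subtype.ext (D.mul_eq_zero r.2 hc hk b))
  · refine Or.inr (Subtype.ext (D.mul_eq_zero (r - 1).2 ?_ (fun w hw => ?_) b))
    · rw [AddSubgroupClass.coe_sub, OneMemClass.coe_one]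
      exact hc.sub_left (Commute.one_left X)
    · rw [AddSubgroupClass.coe_sub, OneMemClass.coe_one]
      exact sub_eq_zero.2 (hk w hw)

theorem Data.pow_seven (D : Data ρ X φ) (h2 : Nat.card {w : W // X w = w} ≤ 2) (b : P) : ρ b ^ 7 = 1 := by
  set a : ↥(alg ρ) := ⟨ρ b, rho_mem b⟩ with ha
  set a' : ↥(alg ρ) := ⟨ρ (φ b), rho_mem _⟩ with ha'
  set a'' : ↥(alg ρ) := ⟨ρ (φ (φ b)), rho_mem _⟩ with ha''
  have hc3 : b * φ b * φ (φ b) = 1 := D.fpf _ (by
    rw [map_mul, map_mul, D.phi_cube, mul_comm (φ b * φ (φ b)) b, mul_assoc])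
  have h3 : a * a' * a'' = 1 := Subtype.ext (by
    show ρ b * ρ (φ b) * ρ (φ (φ b)) = 1
    rw [← map_mul, ← map_mul, hc3, map_one])
  have hp : a * a' + a' * a'' + a'' * a =
      ⟨ρ (b * φ b) + ρ (φ b * φ (φ b)) + ρ (φ (φ b) * b), add_mem (add_mem (rho_mem _) (rho_mem _)) (rho_mem _)⟩ :=
    Subtype.ext (by simp only [ha, ha', ha'', AddMemClass.coe_add, MulMemClass.coe_mul, map_mul])
  have htwo : (2 : ↥(alg ρ)) = 0 := Subtype.ext (by
    simpa [← one_add_one_eq_two] using D.two_eq (1 : AddMonoid.End W))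
  have hs1 := D.scalar h2 (r := a + a' + a'') (D.commute_sum b) b
  have hs2 := D.scalar h2 (r := a * a' + a' * a'' + a'' * a) (by rw [hp]; exact D.commute_pairs b) b
  rw [← ha] at hs1 hs2
  suffices h : a ^ 7 = 1 ∨ a ^ 6 = 1 ∨ a ^ 4 = 1 by
    have hone : ∀ n, n.Coprime (Nat.card P) → ρ b ^ n = 1 → ρ b = 1 := fun n hn e => by
      have h1 : ρ b ^ Nat.card P = 1 := by rw [← map_pow, pow_card_eq_one', map_one]
      have h4 := pow_gcd_eq_one.2 ⟨e, h1⟩
      rwa [hn, pow_one] at h4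
    have c2 : Nat.Coprime 2 (Nat.card P) := Nat.prime_two.coprime_iff_not_dvd.2 D.odd
    have c3 : Nat.Coprime 3 (Nat.card P) := Nat.prime_three.coprime_iff_not_dvd.2 D.three
    rcases h with e | e | e
    · simpa [ha] using congrArg Subtype.val e
    · rw [hone 6 (show (2 * 3).Coprime _ from c2.mul_left c3) (by simpa [ha] using congrArg Subtype.val e), one_pow]
    · rw [hone 4 (show (2 * 2).Coprime _ from c2.mul_left c2) (by simpa [ha] using congrArg Subtype.val e), one_pow]
  rcases hs1 with e1 | e1 <;> rcases hs2 with e2 | e2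
  · refine Or.inr (Or.inl ?_)
    linear_combination (a ^ 2 + a + 1) * a ^ 2 * e1 - (a ^ 2 + a + 1) * a * e2 +
      (a ^ 2 + a + 1) * (a - 1) * h3 + (a ^ 3 - 1) * htwo
  · refine Or.inl ?_
    linear_combination (a ^ 3 + a ^ 2 + 1) * a ^ 2 * e1 - (a ^ 3 + a ^ 2 + 1) * a * e2 +
      (a ^ 3 + a ^ 2 + 1) * (a - 1) * h3 + (a ^ 3 - a ^ 2 + a - 1) * htwo
  · refine Or.inl ?_
    linear_combination (a ^ 3 + a + 1) * a ^ 2 * e1 - (a ^ 3 + a + 1) * a * e2 +
      (a ^ 3 + a + 1) * (a - 1) * h3 + (a ^ 6 - a ^ 5 + a ^ 4 - 1) * htwo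
  · refine Or.inr (Or.inr ?_)
    linear_combination a ^ 2 * e1 - a * e2 + (a - 1) * h3 + (a ^ 3 - a ^ 2 + a - 1) * htwo

end Cfsg.Lib.ThreeFour.Mod
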