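import Mathlib

/-!
An abelian group `P` of order prime to six, normalised by an element `X` of order three acting on it without
fixed points, acting on an elementary abelian two-group `W` in which `X` fixes at most four elements.

For a character `λ` of `P` in a residue field of the ring generated by `P` the fourth power of `λ` is a
conjugate of `λ` under `X`. An involution which inverts `X` and is trivial on the fixed points of `X` forces
`P` to act trivially, and one commuting with `X` centralises the image of `P`.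
-/

set_option autoImplicit false
set_option linter.unusedSectionVars false
set_option linter.style.haveILetI false

namespace Cfsg.Lib.ThreeFour.Mod

open Finset

universe u v

/-- A group whose order is prime to six is not the union of three proper subgroups. -/
theorem exists_eq_top {P : Type*} [Group P] [Finite P] (h2 : ¬ 2 ∣ Nat.card P) (h3 : ¬ 3 ∣ Nat.card P)
    (A B C : Subgroup P) (hcov : ∀ a, a ∈ A ∨ a ∈ B ∨ a ∈ C) : A = ⊤ ∨ B = ⊤ ∨ C = ⊤ := by
  by_contra h
  push Not at h
  have key : ∀ H : Subgroup P, H ≠ ⊤ → 5 * (H : Set P).ncard ≤ Nat.card P := fun H hH => by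
    have hm := H.card_mul_index
    have hd : H.index ∣ Nat.card P := H.index_dvd_card
    have h1 : H.index ≠ 1 := fun e => hH (Subgroup.index_eq_one.1 e)
    have h0 : H.index ≠ 0 := Subgroup.index_ne_zero_of_finite
    have hi : 5 ≤ H.index := by
      by_contra hlt
      rcases (by omega : H.index = 2 ∨ H.index = 3 ∨ H.index = 4) with e | e | e <;> rw [e] at hd
      · exact h2 hd
      · exact h3 hd
      · exact h2 ((by norm_num : 2 ∣ 4).trans hd)
    rw [← Nat.card_coe_set_eq, ← hm]
    calc 5 * Nat.card H = Nat.card H * 5 := mul_comm _ _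
      _ ≤ Nat.card H * H.index := Nat.mul_le_mul_left _ hi
  have hu : (Set.univ : Set P) ⊆ (A : Set P) ∪ B ∪ C := fun a _ => by
    rcases hcov a with h' | h' | h'
    · exact Or.inl (Or.inl h')
    · exact Or.inl (Or.inr h')
    · exact Or.inr h'
  have h4 := Set.ncard_le_ncard hu (Set.toFinite _)
  have h5 := Set.ncard_union_le ((A : Set P) ∪ B) C
  have h6 := Set.ncard_union_le (A : Set P) B
  rw [Set.ncard_univ] at h4
  have := key A h.1
  have := key B h.2.1
  have := key C h.2.2
  have := Nat.card_pos (α := P)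
  omega

theorem fin_iterate : ∀ n : Fin 5, ∀ f : Fin n.1 → Fin n.1, ∀ i : Fin n.1, f i = i → f^[9] = f^[3] := by
  decide +kernel

/-- A map of a set of at most four points with a fixed point has ninth iterate equal to the third. -/
theorem iterate_nine {C : Type*} [Finite C] (hc : Nat.card C ≤ 4) (f : C → C) {c : C} (hfc : f c = c) :
    f^[9] = f^[3] := by
  classical
  have e := Finite.equivFin C
  set g : Fin (Nat.card C) → Fin (Nat.card C) := fun i => e (f (e.symm i)) with hg
  have hs : Function.Semiconj e f g := fun a => by simp [hg]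
  have h := fin_iterate ⟨Nat.card C, Nat.lt_succ_of_le hc⟩ g (e c) (by simp [hg, hfc])
  funext a
  refine e.injective ?_
  rw [(hs.iterate_right 9).eq a, (hs.iterate_right 3).eq a, h]

variable {W : Type u} [AddCommGroup W] {P : Type v} [CommGroup P]

/-- The data: `P` and an element of order three acting on `W`. -/
structure Data (ρ : P →* AddMonoid.End W) (X : AddMonoid.End W) (φ : P →* P) : Prop where
  two : ∀ w : W, w + w = 0
  odd : ¬ 2 ∣ Nat.card P
  three : ¬ 3 ∣ Nat.card P
  cube : X * X * X = 1
  phi_cube : ∀ a, φ (φ (φ a)) = a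
  fpf : ∀ a, φ a = a → a = 1
  comm : ∀ a, X * ρ a = ρ (φ a) * X
  small : Nat.card {w : W // X w = w} ≤ 4

variable {ρ : P →* AddMonoid.End W} {X : AddMonoid.End W} {φ : P →* P}

/-- The ring generated by the image of `P`. -/
abbrev alg (ρ : P →* AddMonoid.End W) : Subring (AddMonoid.End W) := Subring.closure (Set.range ρ)

theorem rho_mem (a : P) : ρ a ∈ alg ρ := Subring.subset_closure ⟨a, rfl⟩

theorem Data.two_eq (D : Data ρ X φ) (r : AddMonoid.End W) : r + r = 0 :=
  AddMonoidHom.ext fun w => D.two (r w)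

theorem Data.neg_eq (D : Data ρ X φ) (r : AddMonoid.End W) : -r = r := neg_eq_of_add_eq_zero_left (D.two_eq r)

/-- An element commuting with `X` stabilises the fixed points of `X`. -/
theorem fixed_of_commute {r : AddMonoid.End W} (hr : Commute r X) {w : W} (hw : X w = w) : X (r w) = r w := by
  have h1 : X (r w) = (X * r) w := rfl
  rw [h1, ← hr.eq]
  show r (X w) = r w
  rw [hw]

theorem alg_commute {r s : AddMonoid.End W} (hr : r ∈ alg ρ) (hs : s ∈ alg ρ) : Commute r s := by
  haveI := Subring.isMulCommutative_closure (s := Set.range ρ) (by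
    rintro _ ⟨a, rfl⟩ _ ⟨b, rfl⟩
    rw [← map_mul, mul_comm, map_mul])
  exact congrArg Subtype.val (mul_comm' (⟨r, hr⟩ : alg ρ) ⟨s, hs⟩)

variable [Finite W] [Finite P]

/-- An element of the algebra commuting with `X` which vanishes on the fixed points of `X` is killed by
`ρ b - 1`. -/
theorem Data.mul_eq_zero (D : Data ρ X φ) {r : AddMonoid.End W} (hr : r ∈ alg ρ) (hc : Commute r X)
    (hk : ∀ w, X w = w → r w = 0) (b : P) : (ρ b - 1) * r = 0 := by
  classical
  haveI := Fintype.ofFinite P
  set N : AddMonoid.End W := 1 + X + X * X with hN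
  have hXN : X * N = N := by
    have h3 := D.cube
    rw [hN, mul_add, mul_add, mul_one, ← mul_assoc, h3]
    abel
  have hrN : r * N = 0 := AddMonoidHom.ext fun w => hk (N w) (by
    show (X * N) w = N w
    rw [hXN])
  set e : AddMonoid.End W := ∑ a : P, ρ a with he
  have hb : (ρ b - 1) * e = 0 := by
    rw [sub_mul, one_mul, he, Finset.mul_sum, sub_eq_zero]
    simp_rw [← map_mul]
    exact Fintype.sum_equiv (Equiv.mulLeft b) _ _ fun a => rfl
  -- the sum of the conjugates of `X ^ i`
  have hsum : ∀ (ψ : P →* P) (Y : AddMonoid.End W), (∀ a, Y * ρ a = ρ (ψ a) * Y) → (∀ a, ψ a = a → a = 1) →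
      ∑ a : P, ρ a * Y * ρ a⁻¹ = e * Y := by
    intro ψ Y hY hfix
    rw [he, Finset.sum_mul]
    have hbij : Function.Bijective fun a : P => a * ψ a⁻¹ := Finite.injective_iff_bijective.1 fun a c hac => by
      have h1 : ψ (c⁻¹ * a) = c⁻¹ * a := by
        have h2 : a * (ψ a)⁻¹ = c * (ψ c)⁻¹ := by simpa [map_inv] using hac
        rw [map_mul, map_inv]
        have h3 : a = c * (ψ c)⁻¹ * ψ a := by rw [← h2, inv_mul_cancel_right]
        conv_rhs => rw [h3, mul_assoc, inv_mul_cancel_left]
      exact (inv_mul_eq_one.1 (hfix _ h1)).symm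
    refine Fintype.sum_equiv (Equiv.ofBijective _ hbij) _ _ fun a => ?_
    show ρ a * Y * ρ a⁻¹ = ρ (a * ψ a⁻¹) * Y
    rw [mul_assoc, hY, map_mul, mul_assoc]
  have h0 : ∑ a : P, ρ a * N * ρ a⁻¹ = 1 + e * X + e * (X * X) := by
    simp only [hN, mul_add, add_mul, mul_one, Finset.sum_add_distrib]
    rw [hsum φ X D.comm D.fpf, hsum (φ.comp φ) (X * X) (fun a => by
      rw [mul_assoc, D.comm, ← mul_assoc, D.comm, mul_assoc]; rfl) (fun a ha => D.fpf a (by
      conv_lhs => rw [← ha]
      exact D.phi_cube a))]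
    congr 1
    congr 1
    simp_rw [← map_mul, mul_inv_cancel, map_one, Finset.sum_const, Finset.card_univ, ← Nat.card_eq_fintype_card]
    obtain ⟨k, hk'⟩ : Odd (Nat.card P) := Nat.not_even_iff_odd.1 fun h => D.odd (even_iff_two_dvd.1 h)
    rw [hk', add_nsmul, one_nsmul, mul_nsmul', two_nsmul, D.two_eq, zero_add]
  have h1 : r * (∑ a : P, ρ a * N * ρ a⁻¹) = 0 := by
    rw [Finset.mul_sum]
    refine Finset.sum_eq_zero fun a _ => ?_
    rw [← mul_assoc, ← mul_assoc, (alg_commute hr (rho_mem a)).eq, mul_assoc (ρ a), hrN, mul_zero, zero_mul]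
  rw [h0, mul_add, mul_add, mul_one, ← mul_assoc, ← mul_assoc r e] at h1
  have h2 : (ρ b - 1) * (r * e) = 0 := by
    have hrb : Commute r (ρ b - 1) := (alg_commute hr (rho_mem b)).sub_right (Commute.one_right r)
    rw [← mul_assoc, ← hrb.eq, mul_assoc, hb, mul_zero]
  have h3 := congrArg ((ρ b - 1) * ·) h1
  simp only [mul_add, mul_zero] at h3
  rw [← mul_assoc _ (r * e) X, ← mul_assoc _ (r * e) (X * X), h2, zero_mul, zero_mul, add_zero, add_zero] at h3
  exact h3

section Char

variable {K : Type*} [CommRing K] [IsDomain K] [CharP K 2] (χ : ↥(alg ρ) →+* K)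

/-- The character of `P` given by a residue map. -/
def char : P →* K := χ.toMonoidHom.comp (ρ.codRestrict (alg ρ).toSubmonoid rho_mem)

theorem char_apply (a : P) : char χ a = χ ⟨ρ a, rho_mem a⟩ := rfl

variable {χ}

theorem Data.chi_eq_zero (D : Data ρ X φ) {b : P} (hb : char χ b ≠ 1) {r : ↥(alg ρ)} (hc : Commute r.1 X)
    (hk : ∀ w, X w = w → r.1 w = 0) : χ r = 0 := by
  have h : ((⟨ρ b, rho_mem b⟩ : alg ρ) - 1) * r = 0 := Subtype.ext (D.mul_eq_zero r.2 hc hk b)
  have h' := congrArg χ h
  rw [map_mul, map_sub, map_one, map_zero, _root_.mul_eq_zero, sub_eq_zero] at h'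
  exact h'.resolve_left hb

/-- The value of an invariant element lies in the field of four elements. -/
theorem Data.chi_pow_four (D : Data ρ X φ) {b : P} (hb : char χ b ≠ 1) {r : ↥(alg ρ)} (hc : Commute r.1 X) :
    χ r ^ 4 = χ r := by
  set f : {w : W // X w = w} → {w : W // X w = w} := fun w => ⟨r.1 w.1, fixed_of_commute hc w.2⟩ with hf
  have hit : ∀ (n : ℕ) (w : {w : W // X w = w}), (f^[n] w).1 = ((r.1) ^ n) w.1 := fun n => by
    induction n with
    | zero => intro w; rfl
    | succ n ih =>
      intro w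
      rw [Function.iterate_succ_apply', pow_succ']
      show r.1 (f^[n] w).1 = r.1 ((r.1 ^ n) w.1)
      rw [ih]
  have h9 := iterate_nine D.small f (c := ⟨0, map_zero X⟩) (Subtype.ext (map_zero r.1))
  have h1 : χ (r ^ 9 - r ^ 3) = 0 := D.chi_eq_zero hb (by
      rw [AddSubgroupClass.coe_sub, SubmonoidClass.coe_pow, SubmonoidClass.coe_pow]
      exact (hc.pow_left 9).sub_left (hc.pow_left 3)) (fun w hw => by
      have h2 := congrArg Subtype.val (congrFun h9 ⟨w, hw⟩)
      rw [hit, hit] at h2
      rw [AddSubgroupClass.coe_sub, SubmonoidClass.coe_pow, SubmonoidClass.coe_pow]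
      exact sub_eq_zero.2 h2)
  rw [map_sub, map_pow, map_pow, sub_eq_zero] at h1
  by_cases hz : χ r = 0
  · rw [hz]; simp
  have h6 : (χ r ^ 3) ^ 2 = (1 : K) ^ 2 :=
    mul_right_cancel₀ (pow_ne_zero 3 hz) (by rw [← pow_mul, ← pow_add, h1]; ring)
  have h7 : χ r ^ 3 = 1 := frobenius_inj K 2 h6
  rw [pow_succ, h7, one_mul]

end Char

end Cfsg.Lib.ThreeFour.Mod
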