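import Cfsg.Agent.ThreeFour.Module.Basic

/-!
The fourth power of a character is a conjugate of it, and the consequences for an involution inverting or
centralising `X`.
-/

set_option autoImplicit false
set_option linter.unusedSectionVars false
set_option linter.style.haveILetI false

namespace Cfsg.Lib.ThreeFour.Mod

universe u v

variable {W : Type u} [AddCommGroup W] {P : Type v} [CommGroup P]
  {ρ : P →* AddMonoid.End W} {X : AddMonoid.End W} {φ : P →* P}

theorem Data.commute_sum (D : Data ρ X φ) (a : P) :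
    Commute (ρ a + ρ (φ a) + ρ (φ (φ a))) X := by
  show _ = _
  rw [mul_add, mul_add, D.comm, D.comm, D.comm, D.phi_cube, ← add_mul, ← add_mul]
  congr 1
  abel

theorem Data.commute_pairs (D : Data ρ X φ) (a : P) :
    Commute (ρ (a * φ a) + ρ (φ a * φ (φ a)) + ρ (φ (φ a) * a)) X := by
  show _ = _
  rw [mul_add, mul_add, D.comm, D.comm, D.comm, map_mul φ, map_mul φ, map_mul φ, D.phi_cube, ← add_mul,
    ← add_mul]
  congr 1
  abel

theorem Data.commute_prod (D : Data ρ X φ) (a : P) : Commute (ρ (a * φ a * φ (φ a))) X := by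
  show _ = _
  rw [D.comm, map_mul φ, map_mul φ, D.phi_cube]
  congr 2
  rw [mul_comm (φ a * φ (φ a)) a, mul_assoc]

variable [Finite W] [Finite P] {K : Type*} [CommRing K] [IsDomain K] [CharP K 2] {χ : ↥(alg ρ) →+* K}

theorem Data.char_pow_four_cases (D : Data ρ X φ) {b : P} (hb : char χ b ≠ 1) (a : P) :
    char χ a ^ 4 = char χ a ∨ char χ a ^ 4 = char χ (φ a) ∨ char χ a ^ 4 = char χ (φ (φ a)) := by
  have hp : ∀ p q : P, char χ (p * q) = char χ p * char χ q := map_mul (char χ)
  have h1 := D.chi_pow_four (χ := χ) hb (r := ⟨ρ a, rho_mem a⟩ + ⟨ρ (φ a), rho_mem _⟩ + ⟨ρ (φ (φ a)), rho_mem _⟩)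
    (D.commute_sum a)
  have h2 := D.chi_pow_four (χ := χ) hb (r := ⟨ρ (a * φ a), rho_mem _⟩ + ⟨ρ (φ a * φ (φ a)), rho_mem _⟩ +
    ⟨ρ (φ (φ a) * a), rho_mem _⟩) (D.commute_pairs a)
  have h3 := D.chi_pow_four (χ := χ) hb (r := ⟨ρ (a * φ a * φ (φ a)), rho_mem _⟩) (D.commute_prod a)
  simp only [map_add, ← char_apply, hp] at h1 h2 h3
  generalize char χ a = r₀ at h1 h2 h3 ⊢
  generalize char χ (φ a) = r₁ at h1 h2 h3 ⊢
  generalize char χ (φ (φ a)) = r₂ at h1 h2 h3 ⊢
  have hf : ∀ p q : K, (p + q) ^ 4 = p ^ 4 + q ^ 4 := fun p q => by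
    simpa using add_pow_char_pow p q (p := 2) (n := 2)
  rw [hf, hf] at h1 h2
  have key : (r₀ ^ 4 - r₀) * (r₀ ^ 4 - r₁) * (r₀ ^ 4 - r₂) = 0 := by
    linear_combination (r₀ ^ 4) ^ 2 * h1 - r₀ ^ 4 * h2 + h3
  rcases _root_.mul_eq_zero.1 key with h | h
  · rcases _root_.mul_eq_zero.1 h with h' | h'
    · exact Or.inl (sub_eq_zero.1 h')
    · exact Or.inr (Or.inl (sub_eq_zero.1 h'))
  · exact Or.inr (Or.inr (sub_eq_zero.1 h))

/-- A homomorphism with values among three given ones coincides with one of them. -/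
theorem eq_of_cases (D : Data ρ X φ) {f g₀ g₁ g₂ : P →* K} (h : ∀ a, f a = g₀ a ∨ f a = g₁ a ∨ f a = g₂ a) :
    f = g₀ ∨ f = g₁ ∨ f = g₂ := by
  rcases exists_eq_top D.odd D.three (f.eqLocus g₀) (f.eqLocus g₁) (f.eqLocus g₂) h with e | e | e
  · exact Or.inl (MonoidHom.eq_of_eqOn_top fun a _ => (e ▸ Subgroup.mem_top a : a ∈ f.eqLocus g₀))
  · exact Or.inr (Or.inl (MonoidHom.eq_of_eqOn_top fun a _ => (e ▸ Subgroup.mem_top a : a ∈ f.eqLocus g₁)))
  · exact Or.inr (Or.inr (MonoidHom.eq_of_eqOn_top fun a _ => (e ▸ Subgroup.mem_top a : a ∈ f.eqLocus g₂)))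

/-- The fourth power of a character is a conjugate of it. -/
theorem Data.char_pow_four (D : Data ρ X φ) {b : P} (hb : char χ b ≠ 1) :
    (∀ a, char χ a ^ 4 = char χ a) ∨ (∀ a, char χ a ^ 4 = char χ (φ a)) ∨
      ∀ a, char χ a ^ 4 = char χ (φ (φ a)) := by
  rcases eq_of_cases D (f := (powMonoidHom 4).comp (char χ)) (g₀ := char χ) (g₁ := (char χ).comp φ)
    (g₂ := ((char χ).comp φ).comp φ) (D.char_pow_four_cases hb) with e | e | e
  · exact Or.inl fun a => DFunLike.congr_fun e a
  · exact Or.inr (Or.inl fun a => DFunLike.congr_fun e a)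
  · exact Or.inr (Or.inr fun a => DFunLike.congr_fun e a)

/-- An involution of the extended group: `E ρ a = ρ (ε a) E`, acting trivially on the fixed points of `X`. -/
structure Outer (ρ : P →* AddMonoid.End W) (X E : AddMonoid.End W) (ε : P →* P) : Prop where
  sq : E * E = 1
  comm : ∀ a, E * ρ a = ρ (ε a) * E
  eps_sq : ∀ a, ε (ε a) = a
  fix : ∀ w, X w = w → E w = w

theorem Outer.conj_mem {E : AddMonoid.End W} {ε : P →* P} (O : Outer ρ X E ε) {r : AddMonoid.End W}
    (hr : r ∈ alg ρ) : E * r * E ∈ alg ρ := by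
  induction hr using Subring.closure_induction with
  | mem r hr =>
    obtain ⟨a, rfl⟩ := hr
    rw [O.comm, mul_assoc, O.sq, mul_one]
    exact rho_mem _
  | zero => simp
  | one => rw [mul_one, O.sq]; exact one_mem _
  | add r s _ _ hr hs => rw [mul_add, add_mul]; exact add_mem hr hs
  | neg r _ hr => rw [mul_neg, neg_mul]; exact neg_mem hr
  | mul r s _ _ hr hs =>
    rw [show E * (r * s) * E = E * r * E * (E * s * E) by
      simp only [mul_assoc]; rw [← mul_assoc E E (s * E), O.sq, one_mul]]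
    exact mul_mem hr hs

/-- The character composed with `ε` is a conjugate of the character. -/
theorem Data.char_eps (D : Data ρ X φ) {E : AddMonoid.End W} {ε : P →* P} (O : Outer ρ X E ε)
    (hEX : E * X = X * E ∨ E * X = X * X * E) {b : P} (hb : char χ b ≠ 1) :
    (∀ a, char χ (ε a) = char χ a) ∨ (∀ a, char χ (ε a) = char χ (φ a)) ∨
      ∀ a, char χ (ε a) = char χ (φ (φ a)) := by
  have key : ∀ r : ↥(alg ρ), Commute r.1 X → χ ⟨E * r.1 * E, O.conj_mem r.2⟩ = χ r := by
    intro r hc
    have hXE : Commute (E * r.1 * E) X := by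
      show E * r.1 * E * X = X * (E * r.1 * E)
      rcases hEX with e | e
      · calc E * r.1 * E * X = E * r.1 * (X * E) := by rw [mul_assoc _ E X, e]
          _ = E * (X * r.1) * E := by rw [← hc.eq]; simp only [mul_assoc]
          _ = X * (E * r.1 * E) := by rw [← mul_assoc E X, e]; simp only [mul_assoc]
      · have e' : X * E = E * X * X := by
          calc X * E = (E * E) * (X * E) := by rw [O.sq, one_mul]
            _ = E * (E * X) * E := by simp only [mul_assoc]
            _ = E * (X * X * E) * E := by rw [e]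
            _ = E * X * X * (E * E) := by simp only [mul_assoc]
            _ = E * X * X := by rw [O.sq, mul_one]
        calc E * r.1 * E * X = E * r.1 * (X * X * E) := by rw [mul_assoc _ E X, e]
          _ = E * (X * X * r.1) * E := by
              rw [← ((hc.mul_right hc).eq)]; simp only [mul_assoc]
          _ = X * (E * r.1 * E) := by
              rw [show E * (X * X * r.1) * E = E * X * X * r.1 * E by simp only [mul_assoc], ← e']
              simp only [mul_assoc]
    refine sub_eq_zero.1 ?_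
    rw [← map_sub]
    refine D.chi_eq_zero hb (by rw [AddSubgroupClass.coe_sub]; exact hXE.sub_left hc) fun w hw => ?_
    rw [AddSubgroupClass.coe_sub]
    refine sub_eq_zero.2 ?_
    show E (r.1 (E w)) = r.1 w
    rw [O.fix w hw, O.fix _ (fixed_of_commute hc hw)]
  have hρ : ∀ a, E * ρ a * E = ρ (ε a) := fun a => by rw [O.comm, mul_assoc, O.sq, mul_one]
  have hcases : ∀ a, char χ (ε a) = char χ a ∨ char χ (ε a) = char χ (φ a) ∨
      char χ (ε a) = char χ (φ (φ a)) := by
    intro a
    have hp : ∀ p q : P, char χ (p * q) = char χ p * char χ q := map_mul (char χ)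
    have g : ∀ p : P, χ ⟨E * ρ p * E, O.conj_mem (rho_mem p)⟩ = char χ (ε p) := fun p =>
      congrArg χ (Subtype.ext (hρ p))
    have ga : ∀ (p q s : P), χ ⟨E * (ρ p + ρ q + ρ s) * E, O.conj_mem (add_mem (add_mem (rho_mem p) (rho_mem q))
        (rho_mem s))⟩ = char χ (ε p) + char χ (ε q) + char χ (ε s) := fun p q s => by
      simp only [char_apply, ← map_add]
      refine congrArg χ (Subtype.ext ?_)
      simp only [AddMemClass.coe_add, mul_add, add_mul, hρ]
    have h1 := key (⟨ρ a, rho_mem a⟩ + ⟨ρ (φ a), rho_mem _⟩ + ⟨ρ (φ (φ a)), rho_mem _⟩) (D.commute_sum a)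
    have h2 := key (⟨ρ (a * φ a), rho_mem _⟩ + ⟨ρ (φ a * φ (φ a)), rho_mem _⟩ +
      ⟨ρ (φ (φ a) * a), rho_mem _⟩) (D.commute_pairs a)
    have h3 := key ⟨ρ (a * φ a * φ (φ a)), rho_mem _⟩ (D.commute_prod a)
    simp only [AddMemClass.coe_add] at h1 h2
    rw [ga] at h1 h2
    rw [g] at h3
    simp only [map_add, ← char_apply, map_mul ε, hp] at h1 h2 h3
    generalize char χ (ε a) = s₀ at h1 h2 h3 ⊢
    generalize char χ (ε (φ a)) = s₁ at h1 h2 h3
    generalize char χ (ε (φ (φ a))) = s₂ at h1 h2 h3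
    have k : (s₀ - char χ a) * (s₀ - char χ (φ a)) * (s₀ - char χ (φ (φ a))) = 0 := by
      linear_combination s₀ ^ 2 * h1 - s₀ * h2 + h3
    rcases _root_.mul_eq_zero.1 k with h | h
    · rcases _root_.mul_eq_zero.1 h with h' | h'
      · exact Or.inl (sub_eq_zero.1 h')
      · exact Or.inr (Or.inl (sub_eq_zero.1 h'))
    · exact Or.inr (Or.inr (sub_eq_zero.1 h))
  rcases eq_of_cases D (f := (char χ).comp ε) (g₀ := char χ) (g₁ := (char χ).comp φ)
    (g₂ := ((char χ).comp φ).comp φ) hcases with e | e | e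
  · exact Or.inl fun a => DFunLike.congr_fun e a
  · exact Or.inr (Or.inl fun a => DFunLike.congr_fun e a)
  · exact Or.inr (Or.inr fun a => DFunLike.congr_fun e a)

/-- A character whose cube is trivial is trivial. -/
theorem Data.char_eq_one (D : Data ρ X φ) (a : P) (h : char χ a ^ 4 = char χ a) : char χ a = 1 := by
  set z := char χ a
  have hn : z ^ Nat.card P = 1 := by rw [← map_pow, pow_card_eq_one', map_one]
  have hz : z ≠ 0 := fun e => by
    rw [e, zero_pow (Nat.card_pos (α := P)).ne'] at hn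
    exact zero_ne_one hn
  have h3 : z ^ 3 = 1 := mul_right_cancel₀ hz (by rw [one_mul, ← pow_succ, h])
  obtain ⟨m, hm⟩ : ∃ m, Nat.card P = 3 * m + 1 ∨ Nat.card P = 3 * m + 2 :=
    ⟨Nat.card P / 3, by have := D.three; omega⟩
  rcases hm with e | e <;> rw [e, pow_add, pow_mul, h3, one_pow, one_mul] at hn
  · rwa [pow_one] at hn
  · calc z = z * z ^ 2 := by rw [hn, mul_one]
      _ = 1 := by rw [← pow_succ', h3]

theorem Data.char_phi (D : Data ρ X φ) (h : ∀ a, char χ a ^ 4 = char χ (φ a))
    (h' : ∀ a, char χ (φ a) = char χ a) (a : P) : char χ a = 1 :=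
  D.char_eq_one a ((h a).trans (h' a))

/-- An involution inverting `X` leaves no nontrivial character. -/
theorem Data.char_inverted (D : Data ρ X φ) {E : AddMonoid.End W} {ε : P →* P} (O : Outer ρ X E ε)
    (hEX : E * X = X * X * E) (hεφ : ∀ a, ε (φ a) = φ (φ (ε a))) (b : P) : char χ b = 1 := by
  by_contra hb
  have hφε : ∀ a, φ (ε a) = ε (φ (φ a)) := fun a => by rw [hεφ, hεφ, D.phi_cube]
  have hεε : ∀ a, φ (φ (ε a)) = ε (φ a) := fun a => (hεφ a).symm
  rcases D.char_pow_four (χ := χ) hb with h | h | h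
  · exact hb (D.char_eq_one b (h b))
  all_goals
    have hφ : ∀ a, char χ (φ a) = char χ a := by
      rcases D.char_eps O (Or.inr hEX) (χ := χ) hb with e | e | e
      all_goals
        intro a
        have k : ∀ c, char χ (ε c) ^ 4 = _ := fun c => h (ε c)
        simp only [e, h, hφε, hεε, D.phi_cube] at k
        have k0 := k a
        have k1 := k (φ a)
        have k2 := k (φ (φ a))
        simp only [D.phi_cube] at k0 k1 k2
        grind
    exact hb (D.char_eq_one b (by rw [h]; simp only [hφ]))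

/-- An involution commuting with `X` fixes every character. -/
theorem Data.char_central (D : Data ρ X φ) {E : AddMonoid.End W} {ε : P →* P} (O : Outer ρ X E ε)
    (hEX : E * X = X * E) (hεφ : ∀ a, ε (φ a) = φ (ε a)) (b : P) : char χ (ε b) = char χ b := by
  by_cases hb : ∃ a, char χ a ≠ 1
  · obtain ⟨a, ha⟩ := hb
    rcases D.char_eps O (Or.inl hEX) (χ := χ) ha with e | e | e
    · exact e b
    · have h2 : ∀ p, char χ (φ (φ p)) = char χ p := fun p => by
        have := e (ε p)
        rw [O.eps_sq, ← hεφ, e] at this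
        exact this.symm
      rw [e, ← h2 (φ b), D.phi_cube]
    · have h2 : ∀ p, char χ (φ p) = char χ p := fun p => by
        have := e (ε p)
        rw [O.eps_sq, ← hεφ, ← hεφ, e, D.phi_cube] at this
        exact this.symm
      rw [e, h2, h2]
  · push Not at hb
    rw [hb, hb]

end Cfsg.Lib.ThreeFour.Mod
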